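import Cfsg.Agent.Lib.Fi22U62.Transpositions
import Cfsg.Agent.Lib.FischerAut.Tree
import Cfsg.Agent.Lib.FischerAut.Out

/-!
Fi22 as a group on its 3510 transpositions (helper71).

* `model`, `ctx`
-/

set_option autoImplicit false
set_option maxRecDepth 10000

namespace Cfsg.Agent.Fi22Aut

open Cfsg.Agent.CosetEnum Cfsg.Agent.CosetEnum.Data
open Cfsg.Agent.Fi22U62 (rho pt0 z0 rho_injective rho_ev lane_trace Hs mem_Hs_iff centralizer_z0 dword)

theorem exists_map_pt0 (i : Fin fi22h.n) : ∃ g, rho g pt0 = i := by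
  obtain ⟨e, he0, he⟩ := Fi22U62.exists_coset_equiv
  obtain ⟨g, hg⟩ := QuotientGroup.mk_surjective (e i)
  refine ⟨g, e.injective ?_⟩
  rw [← he g pt0, he0, ← hg]
  show ((g * 1 : fi22Setup.G) : fi22Setup.G ⧸ Hs) = _
  rw [mul_one]

/-- the transpositions of Fi22 -/
noncomputable def model : FischerAut.Model fi22Setup.G fi22h.n :=
  FischerAut.Model.ofBase rho pt0 z0 exists_map_pt0 (fun g => by
    rw [← mem_Hs_iff, ← centralizer_z0, Subgroup.mem_centralizer_singleton_iff])

theorem model_rho : model.ρ = rho := rfl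

theorem model_d0 : model.d pt0 = z0 := FischerAut.Model.ofBase_d _ _ _ _ _

/-- the point of a word -/
noncomputable def pt (u : List ℕ) : Fin fi22h.n := rho (ev fi22Setup.el u) pt0

/-- letters only -/
noncomputable def okw (u : List ℕ) : Bool := u.all fun a => Nat.blt a fi22h.k

/-- the transposition of a word as a packed permutation -/
noncomputable def V (u : List ℕ) : ℕ := fi22h.trace (dword u)

/-- the point of a word as a number -/
noncomputable def P (u : List ℕ) : ℕ := lane 13 (fi22h.trace u) 0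

theorem okw_iff {u : List ℕ} : okw u = true ↔ ∀ a ∈ u, a < fi22h.k := by
  simp [okw, List.all_eq_true]

theorem P_eq {u : List ℕ} (h : okw u = true) : P u = (pt u : ℕ) := by
  have hlt := okw_iff.mp h
  show lane 13 (fi22h.trace u) ((pt0 : Fin fi22h.n) : ℕ) = _
  rw [lane_trace hlt pt0, pt, rho_ev u hlt, Setup.ev_perm _ _ hlt]

theorem dword_lt {u : List ℕ} (hlt : ∀ a ∈ u, a < fi22h.k) : ∀ a ∈ dword u, a < fi22h.k := by
  simp only [dword, List.mem_append, List.mem_reverse, List.mem_singleton]
  rintro a ((ha | rfl) | ha)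
  · exact hlt a ha
  · decide +kernel
  · exact hlt a ha

theorem d_pt {u : List ℕ} (hlt : ∀ a ∈ u, a < fi22h.k) : model.d (pt u) = ev fi22Setup.el (dword u) := by
  rw [pt, ← model_rho, model.conj, model_d0, dword, ev_append, ev_append, Fi22U62.ev_inv u hlt]
  simp [ev, z0, mul_assoc]

theorem rho_word {u : List ℕ} (hlt : ∀ a ∈ u, a < fi22h.k) (i : Fin fi22h.n) :
    (rho (ev fi22Setup.el u) i : ℕ) = lane 13 (fi22h.trace u) i := by
  rw [lane_trace hlt, rho_ev u hlt, Setup.ev_perm _ _ hlt]

theorem eq_of_trace {u v : List ℕ} (hu : ∀ a ∈ u, a < fi22h.k) (hv : ∀ a ∈ v, a < fi22h.k)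
    (h : fi22h.trace u = fi22h.trace v) : ev fi22Setup.el u = ev fi22Setup.el v := by
  apply rho_injective
  exact Equiv.ext fun i => Fin.ext (by rw [rho_word hu, rho_word hv, h])

/-- the interpretation of words -/
noncomputable def ctx : FischerAut.Ctx model 13 V P okw where
  pt := pt
  hP _ h := P_eq h
  hV u h i := by
    have hlt := okw_iff.mp h
    rw [V, ← rho_word (dword_lt hlt) i, d_pt hlt, model_rho]

end Cfsg.Agent.Fi22Aut
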