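import Cfsg.Agent.Lib.Fi22Aut.Basic
import Cfsg.Agent.Lib.Fi22Aut.Data

/-!
An element of order 11 and the invariance of the class of transpositions of Fi22 under automorphisms (helper71).

* `no_involution`: no involution of `PSU₆(2)` commutes with the element of order 11
* `apply_mem_range`: every automorphism preserves the transpositions
-/

set_option autoImplicit false
set_option maxRecDepth 100000

namespace Cfsg.Agent.Fi22Aut

open Cfsg.Agent.CosetEnum Cfsg.Agent.CosetEnum.Data
open Cfsg.Agent.Unitary (GF4)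
open Cfsg.Agent.Fi22U62 (rho pt0 z0 rho_injective lane_trace Hs mem_Hs_iff centralizer_z0 V6 enc dec code gf mk6
  tvv gvec iso_gvec tv pperm phi gperm hgen hgen_mem phi_gen gw gword rho_gword)

/-- the element of order 11 on codes -/
noncomputable def af (n : ℕ) : ℕ := lane 12 afTab n

/-- apply transvections to a code -/
noncomputable def tfold : List ℕ → ℕ → ℕ
  | [], n => n
  | k :: l, n => force (enc (tvv (gvec k) (dec n))) fun m => tfold l m

/-- a linear combination of the Krylov vectors of a code -/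
noncomputable def comb (c : ℕ) (u : ℕ) : ℕ :=
  force (af u) fun p1 => force (af p1) fun p2 => force (af p2) fun p3 => force (af p3) fun p4 =>
  force (af p4) fun p5 =>
    enc (dec c 0 • dec u + dec c 1 • dec p1 + dec c 2 • dec p2 + dec c 3 • dec p3 + dec c 4 • dec p4 + dec c 5 • dec p5)

theorem w11_range : (w11.all fun k => Nat.blt 0 k && Nat.blt k 9) = true := by decide +kernel

theorem af_check : ((List.range 4096).all fun n => Nat.beq (tfold w11 n) (af n)) = true := by decide +kernel

theorem cyclic_check : ((List.range 4096).all fun u =>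
    Nat.beq (comb (lane 12 ctTab u) 1) u &&
      (Nat.beq u 0 || !Nat.beq (comb (lane 12 ctTab u) u) 0)) = true := by decide +kernel

theorem dec_enc (v : V6) : dec (enc v) = v := by
  unfold dec enc
  have h0 := Fi22U62.code_lt (v 0)
  have h1 := Fi22U62.code_lt (v 1)
  have h2 := Fi22U62.code_lt (v 2)
  have h3 := Fi22U62.code_lt (v 3)
  have h4 := Fi22U62.code_lt (v 4)
  have h5 := Fi22U62.code_lt (v 5)
  have hg : ∀ a : GF4, gf (code a) = a := by decide
  set c0 := code (v 0) with e0
  set c1 := code (v 1) with e1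
  set c2 := code (v 2) with e2
  set c3 := code (v 3) with e3
  set c4 := code (v 4) with e4
  set c5 := code (v 5) with e5
  rw [show (c0 + 4 * c1 + 16 * c2 + 64 * c3 + 256 * c4 + 1024 * c5) % 4 = c0 by omega,
    show (c0 + 4 * c1 + 16 * c2 + 64 * c3 + 256 * c4 + 1024 * c5) / 4 % 4 = c1 by omega,
    show (c0 + 4 * c1 + 16 * c2 + 64 * c3 + 256 * c4 + 1024 * c5) / 16 % 4 = c2 by omega,
    show (c0 + 4 * c1 + 16 * c2 + 64 * c3 + 256 * c4 + 1024 * c5) / 64 % 4 = c3 by omega,
    show (c0 + 4 * c1 + 16 * c2 + 64 * c3 + 256 * c4 + 1024 * c5) / 256 % 4 = c4 by omega,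
    show (c0 + 4 * c1 + 16 * c2 + 64 * c3 + 256 * c4 + 1024 * c5) / 1024 % 4 = c5 by omega,
    e0, e1, e2, e3, e4, e5, hg, hg, hg, hg, hg, hg]
  exact (Fi22U62.eq_mk6 v).symm

theorem enc_lt (v : V6) : enc v < 4096 := by
  unfold enc
  have h0 := Fi22U62.code_lt (v 0)
  have h1 := Fi22U62.code_lt (v 1)
  have h2 := Fi22U62.code_lt (v 2)
  have h3 := Fi22U62.code_lt (v 3)
  have h4 := Fi22U62.code_lt (v 4)
  have h5 := Fi22U62.code_lt (v 5)
  omega

/-- the transvection of a generator -/
noncomputable def tgen (k : ℕ) : Cfsg.SU 6 GF4 2 := if hk : k - 1 < 8 then tv _ (iso_gvec ⟨k - 1, hk⟩) else 1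

/-- the element of order 11 -/
noncomputable def A11 : Cfsg.SU 6 GF4 2 := ev tgen w11

theorem suAct_one (x : V6) : Unitary.suAct (1 : Cfsg.SU 6 GF4 2) x = x := Matrix.one_mulVec x

theorem suAct_tgen {k : ℕ} (h0 : 0 < k) (h9 : k < 9) (x : V6) : Unitary.suAct (tgen k) x = tvv (gvec k) x := by
  obtain ⟨k, rfl⟩ : ∃ j, k = j + 1 := ⟨k - 1, by omega⟩
  have hk : k + 1 - 1 < 8 := by omega
  rw [tgen, dif_pos hk, Fi22U62.tv_apply]
  simp only [Nat.add_sub_cancel]
  rw [tvv]
  simp [Cfsg.hermForm, Fin.sum_univ_six, pow_two]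

theorem suAct_A11 (x : V6) : Unitary.suAct A11 x = dec (af (enc x)) := by
  have hw : ∀ k ∈ w11, 0 < k ∧ k < 9 := by
    simpa [List.all_eq_true] using w11_range
  have key : ∀ w : List ℕ, (∀ k ∈ w, 0 < k ∧ k < 9) → ∀ x : V6,
      enc (Unitary.suAct (ev tgen w) x) = tfold w (enc x) := by
    intro w
    induction w with
    | nil => intro _ x; rw [ev, suAct_one]; rfl
    | cons k v ih =>
      intro hk x
      show enc (Unitary.suAct (ev tgen v * tgen k) x) = _
      rw [Unitary.suAct_mul, ih (fun b hb => hk b (List.mem_cons_of_mem k hb)),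
        suAct_tgen (hk k List.mem_cons_self).1 (hk k List.mem_cons_self).2, tfold, force_eq, dec_enc]
  have h := List.all_eq_true.mp af_check (enc x) (List.mem_range.mpr (enc_lt x))
  rw [← key w11 hw x] at h
  rw [← Nat.eq_of_beq_eq_true h, A11, dec_enc]

/-- no nontrivial nilpotent map of square zero commutes with the element of order 11 -/
theorem nil_zero (N : V6 →ₗ[GF4] V6) (hA : ∀ x, N (Unitary.suAct A11 x) = Unitary.suAct A11 (N x))
    (h2 : ∀ x, N (N x) = 0) : ∀ x, N x = 0 := by
  have hcomb : ∀ c (x : V6), dec (comb c (enc x)) =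
      dec c 0 • x + dec c 1 • Unitary.suAct A11 x + dec c 2 • Unitary.suAct A11 (Unitary.suAct A11 x) +
      dec c 3 • Unitary.suAct A11 (Unitary.suAct A11 (Unitary.suAct A11 x)) +
      dec c 4 • Unitary.suAct A11 (Unitary.suAct A11 (Unitary.suAct A11 (Unitary.suAct A11 x))) +
      dec c 5 • Unitary.suAct A11 (Unitary.suAct A11 (Unitary.suAct A11 (Unitary.suAct A11 (Unitary.suAct A11 x)))) := by
    intro c x
    have hlt : ∀ n, n < 4096 → enc (dec (af n)) = af n := by
      intro n hn
      have h := Nat.eq_of_beq_eq_true (List.all_eq_true.mp af_check n (List.mem_range.mpr hn))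
      rw [← h]
      have : ∀ (w : List ℕ) (m : ℕ), enc (dec m) = m → enc (dec (tfold w m)) = tfold w m := by
        intro w
        induction w with
        | nil => exact fun m h => h
        | cons k v ih => intro m _; rw [tfold, force_eq]; exact ih _ (by rw [dec_enc])
      refine this w11 n ?_
      have hb : ((List.range 4096).all fun n => Nat.beq (enc (dec n)) n) = true := by decide +kernel
      exact Nat.eq_of_beq_eq_true (List.all_eq_true.mp hb n (List.mem_range.mpr hn))
    have e : ∀ y : V6, enc (Unitary.suAct A11 y) = af (enc y) := fun y => by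
      rw [suAct_A11, hlt _ (enc_lt y)]
    unfold comb
    simp only [force_eq]
    rw [← e x, ← e, ← e, ← e, ← e, dec_enc, dec_enc, dec_enc, dec_enc, dec_enc, dec_enc, dec_enc]
  set u := N (dec 1)
  have h := List.all_eq_true.mp cyclic_check (enc u) (List.mem_range.mpr (enc_lt u))
  simp only [Bool.and_eq_true, Bool.or_eq_true, Bool.not_eq_true'] at h
  obtain ⟨h1, h2'⟩ := h
  set c := lane 12 ctTab (enc u)
  have e1 : enc (dec 1) = 1 := by decide +kernel
  have hu : u = dec (comb c 1) := by rw [Nat.eq_of_beq_eq_true h1, dec_enc]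
  have hu0 : u = 0 := by
    rcases h2' with h2' | h2'
    · rw [← dec_enc u, Nat.eq_of_beq_eq_true h2']
      decide +kernel
    · exfalso
      have hzero : dec (comb c (enc u)) = 0 := by
        rw [hcomb]
        have := h2 (dec 1)
        rw [show N (dec 1) = u from rfl] at this
        conv_rhs => rw [← this]
        have hu' : N u = N (dec (comb c (enc (dec 1)))) := by rw [e1, ← hu]
        rw [hu', hcomb]
        simp only [map_add, map_smul, hA]
        rfl
      have hz : comb c (enc u) = 0 := by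
        have hc : ∀ x, enc (dec (comb c (enc x))) = comb c (enc x) := fun x => by
          unfold comb
          simp only [force_eq, dec_enc]
        rw [← hc, hzero]
        decide +kernel
      rw [hz] at h2'
      exact Bool.false_ne_true (h2'.symm.trans (Nat.beq_refl 0))
  intro x
  have hx := List.all_eq_true.mp cyclic_check (enc x) (List.mem_range.mpr (enc_lt x))
  simp only [Bool.and_eq_true] at hx
  have hxc : x = dec (comb (lane 12 ctTab (enc x)) (enc (dec 1))) := by
    rw [e1, Nat.eq_of_beq_eq_true hx.1, dec_enc]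
  rw [hxc, hcomb]
  simp only [map_add, map_smul, hA]
  rw [show N (dec 1) = u from rfl, hu0]
  simp [Unitary.suAct_zero]

theorem center_pow_three (c : Cfsg.SU 6 GF4 2) (hc : c ∈ Subgroup.center (Cfsg.SU 6 GF4 2)) : c ^ 3 = 1 := by
  have h := Unitary.card_center_SU (n := 6) Fi22U62.hF (by norm_num)
  have h3 : Nat.card (Subgroup.center (Cfsg.SU 6 GF4 2)) = 3 := h.trans rfl
  have := pow_card_eq_one' (x := (⟨c, hc⟩ : Subgroup.center (Cfsg.SU 6 GF4 2)))
  rw [h3] at this
  exact congrArg Subtype.val this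

/-- no involution of `PSU₆(2)` commutes with the element of order 11 -/
theorem no_involution (hA11 : pperm A11 ^ 11 = 1) (τ : Equiv.Perm (Fin 693)) (hτ : τ ∈ pperm.range)
    (h2 : τ ^ 2 = 1) (hcomm : τ * pperm A11 = pperm A11 * τ) : τ = 1 := by
  obtain ⟨B₀, rfl⟩ := hτ
  have hcen : ∀ g, pperm g = 1 → g ∈ Subgroup.center (Cfsg.SU 6 GF4 2) := fun g hg => by
    rw [← Fi22U62.ker_pperm]; exact MonoidHom.mem_ker.mpr hg
  set B := B₀ ^ 3
  have hB : pperm B = pperm B₀ := by rw [map_pow, pow_succ, h2, one_mul]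
  rw [← hB] at hcomm ⊢
  have hB2 : B * B = 1 := by
    rw [← pow_add]
    have := center_pow_three (B₀ ^ 2) (hcen _ (by rw [map_pow, h2]))
    rwa [← pow_mul] at this
  set ω := B * A11 * B⁻¹ * A11⁻¹
  have hω : ω ∈ Subgroup.center (Cfsg.SU 6 GF4 2) := hcen _ (by
    simp only [ω, map_mul, map_inv, hcomm]
    group)
  have hconj : B * A11 * B⁻¹ = ω * A11 := by simp only [ω]; group
  have hA11c : A11 ^ 11 ∈ Subgroup.center (Cfsg.SU 6 GF4 2) := hcen _ (by rw [map_pow, hA11])
  have h11 : ω ^ 11 = 1 := by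
    have h := congrArg (fun y => y ^ 11) hconj
    simp only [conj_pow, (show Commute ω A11 from (Subgroup.mem_center_iff.mp hω A11).symm).mul_pow] at h
    rw [Subgroup.mem_center_iff.mp hA11c B, mul_inv_cancel_right] at h
    exact mul_right_cancel (h.symm.trans (one_mul _).symm)
  have hω1 : ω = 1 := by
    have h3 := center_pow_three ω hω
    calc ω = (ω ^ 3) ^ 4 * (ω ^ 11)⁻¹ := by group
      _ = 1 := by rw [h3, h11]; simp
  have hBA : B * A11 = A11 * B := by
    rw [hω1, one_mul] at hconj
    conv_rhs => rw [← hconj]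
    group
  let N : V6 →ₗ[GF4] V6 :=
    { toFun := fun x => Unitary.suAct B x + x
      map_add' := fun x y => by simp only [Unitary.suAct_add]; abel
      map_smul' := fun a x => by simp only [Unitary.suAct_smul, RingHom.id_apply, smul_add] }
  have hNA : ∀ x, N (Unitary.suAct A11 x) = Unitary.suAct A11 (N x) := fun x => by
    show Unitary.suAct B (Unitary.suAct A11 x) + _ = Unitary.suAct A11 (Unitary.suAct B x + x)
    rw [Unitary.suAct_add, ← Unitary.suAct_mul, hBA, Unitary.suAct_mul]
  have hadd : ∀ y : V6, y + y = 0 := fun y => funext fun i => by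
    show y i + y i = 0
    generalize y i = a
    revert a
    decide
  have hN2 : ∀ x, N (N x) = 0 := fun x => by
    show Unitary.suAct B (Unitary.suAct B x + x) + (Unitary.suAct B x + x) = 0
    rw [Unitary.suAct_add, ← Unitary.suAct_mul, hB2, suAct_one, add_comm (Unitary.suAct B x) x, hadd]
  have hid : B = 1 := Unitary.suAct_ext fun x => by
    have h : Unitary.suAct B x + x = 0 := nil_zero N hNA hN2 x
    rw [suAct_one]
    calc Unitary.suAct B x = Unitary.suAct B x + x + x := by rw [add_assoc, hadd, add_zero]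
      _ = x := by rw [h, zero_add]
  rw [hid, map_one]

theorem gperm_eq {k : ℕ} (h0 : 0 < k) (h9 : k < 9) : gperm k = pperm (tgen k) := by
  obtain ⟨k, rfl⟩ : ∃ j, k = j + 1 := ⟨k - 1, by omega⟩
  have hk : k < 8 := by omega
  rw [gperm, dif_pos hk, tgen, dif_pos (show k + 1 - 1 < 8 by omega)]
  rfl

/-- the element of order 11 in the centraliser -/
noncomputable def x11 : Hs := ev Fi22U62.hel w11

theorem phi_x11 : phi x11 = pperm A11 := by
  have hw : ∀ k ∈ w11, 0 < k ∧ k < 9 := by simpa [List.all_eq_true] using w11_range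
  have key : ∀ w : List ℕ, (∀ k ∈ w, 0 < k ∧ k < 9) → phi (ev Fi22U62.hel w) = pperm (ev tgen w) := by
    intro w
    induction w with
    | nil => intro _; simp [ev]
    | cons k v ih =>
      intro hk
      show phi (ev Fi22U62.hel v * Fi22U62.hel k) = pperm (ev tgen v * tgen k)
      rw [map_mul, map_mul, ih (fun b hb => hk b (List.mem_cons_of_mem k hb)), Fi22U62.hel,
        dif_pos (hk k List.mem_cons_self).2, phi_gen (hk k List.mem_cons_self).2, gperm_eq (hk k List.mem_cons_self).1 (hk k List.mem_cons_self).2]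
  exact key w11 hw

theorem x11_check : ((gword w11).all (fun a => Nat.blt a fi22h.k) &&
    (force (fi22h.trace (gword w11)) fun V => (List.range 3510).all fun i => !Nat.beq (lane 13 V i) i || Nat.beq i 0) &&
      (((Setup.wpow (gword w11) 11).all fun a => Nat.blt a fi22h.k) &&
        Nat.beq (fi22h.trace (Setup.wpow (gword w11) 11)) (fi22h.trace []))) = true := by
  decide +kernel

theorem x11_facts : orderOf (x11 : fi22Setup.G) = 11 ∧
    ∀ i, rho (x11 : fi22Setup.G) i = i → i = pt0 := by
  have h := x11_check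
  simp only [Bool.and_eq_true, force_eq, List.all_eq_true, Nat.blt_eq, Bool.or_eq_true, Bool.not_eq_true'] at h
  obtain ⟨⟨hlt, hfix⟩, hlt11, hpow⟩ := h
  have hw : ∀ k ∈ w11, k < 9 := fun k hk => ((by simpa [List.all_eq_true] using w11_range :
    ∀ k ∈ w11, 0 < k ∧ k < 9) k hk).2
  have hrho : rho (x11 : fi22Setup.G) = ev (Setup.perm fi22h S1687.table.perm) (gword w11) := by
    rw [x11, Fi22U62.val_ev_hel _ hw, rho_gword _ hw]
  have hfix' : ∀ i, rho (x11 : fi22Setup.G) i = i → i = pt0 := by
    intro i hi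
    rcases hfix i (List.mem_range.mpr i.2) with h | h
    · exfalso
      rw [lane_trace hlt i, ← Setup.ev_perm S1687.table.perm _ hlt i, ← hrho, hi] at h
      exact Bool.false_ne_true (h.symm.trans (Nat.beq_refl _))
    · exact Fin.ext (Nat.eq_of_beq_eq_true h)
  refine ⟨?_, hfix'⟩
  have : Fact (Nat.Prime 11) := ⟨by norm_num⟩
  refine orderOf_eq_prime (rho_injective ?_) ?_
  · rw [map_pow, hrho, ← Setup.ev_wpow, map_one]
    have := Fi22U62.eq_of_trace hlt11 (v := []) (by simp) (Nat.eq_of_beq_eq_true hpow)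
    exact this.trans rfl
  · intro h1
    have h1' := hfix' ⟨1, by decide +kernel⟩ (by rw [h1, map_one]; rfl)
    exact absurd (congrArg Fin.val h1') one_ne_zero

theorem card_fi22 : Nat.card fi22Setup.G = 64561751654400 := S1696.main.2

/-- an automorphism sends the transposition of the base point to a transposition -/
theorem apply_z0 (φ : MulAut fi22Setup.G) : φ z0 ∈ Set.range model.d := by
  have := Fi22U62.fi22_finite
  have : Fact (Nat.Prime 11) := ⟨by norm_num⟩
  obtain ⟨ho, hfix⟩ := x11_facts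
  have hy : orderOf (φ (x11 : fi22Setup.G)) = 11 := by rw [MulEquiv.orderOf_eq, ho]
  obtain ⟨g, hg⟩ := FischerAut.exists_conj_mem_zpowers (p := 11) (by norm_num)
    (by rw [card_fi22]; norm_num) ho hy
  set t := g * φ z0 * g⁻¹ with ht
  set y := g * φ (x11 : fi22Setup.G) * g⁻¹ with hy'
  have hty : Commute t y := by
    have hc : Commute z0 (x11 : fi22Setup.G) := (Fi22U62.z0_comm x11.2).symm
    exact (Commute.conj_iff g).mpr (hc.map φ.toMonoidHom)
  have hy1 : orderOf y = 11 := by
    rw [hy', show g * φ (x11 : fi22Setup.G) * g⁻¹ = MulAut.conj g (φ (x11 : fi22Setup.G)) from rfl,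
      MulEquiv.orderOf_eq, hy]
  have hxy : Subgroup.zpowers y = Subgroup.zpowers (x11 : fi22Setup.G) := by
    refine Subgroup.eq_of_le_of_card_ge (Subgroup.zpowers_le.mpr hg) ?_
    rw [Nat.card_zpowers, Nat.card_zpowers, hy1, ho]
  have htx : Commute t (x11 : fi22Setup.G) := by
    obtain ⟨k, hk⟩ := Subgroup.mem_zpowers_iff.mp (hxy ▸ Subgroup.mem_zpowers (x11 : fi22Setup.G))
    rw [← hk]
    exact hty.zpow_right k
  have htH : t ∈ Hs := by
    rw [mem_Hs_iff]
    refine hfix _ ?_
    rw [← Equiv.Perm.mul_apply, ← map_mul, ← htx.eq, map_mul, Equiv.Perm.mul_apply,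
      (mem_Hs_iff _).mp x11.2]
  have ht2 : t * t = 1 := by
    have : φ z0 * φ z0 = 1 := by rw [← map_mul, Fi22U62.z0_sq, map_one]
    calc t * t = g * (φ z0 * φ z0) * g⁻¹ := by rw [ht]; group
      _ = 1 := by rw [this]; group
  have hker : phi ⟨t, htH⟩ = 1 := by
    refine no_involution ?_ _ ?_ ?_ ?_
    · rw [← phi_x11, ← map_pow]
      have : x11 ^ 11 = 1 := Subtype.ext (by rw [Subgroup.coe_pow, Subgroup.coe_one, ← ho, pow_orderOf_eq_one])
      rw [this, map_one]
    · rw [← Fi22U62.range_eq]; exact ⟨_, rfl⟩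
    · rw [← map_pow, show (⟨t, htH⟩ : Hs) ^ 2 = 1 from Subtype.ext (by rw [Subgroup.coe_pow, pow_two]; exact ht2),
        map_one]
    · rw [← phi_x11, ← map_mul, ← map_mul]
      exact congrArg phi (Subtype.ext htx.eq)
  have ht1 : t ≠ 1 := by
    intro h
    apply Fi22U62.z0_ne
    apply φ.injective
    rw [map_one]
    exact conj_eq_one_iff.mp h
  have hz : t = z0 := by
    obtain ⟨x, y, hxy', hu⟩ := Nat.card_eq_two_iff.mp Fi22U62.card_ker
    have hz0 : (⟨z0, Fi22U62.z0_mem⟩ : Hs) ∈ phi.ker := by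
      rw [← Fi22U62.center_eq_ker, Subgroup.mem_center_iff]
      exact fun h => Subtype.ext (Fi22U62.z0_comm h.2)
    have m : ∀ b : phi.ker, b = x ∨ b = y := fun b => by
      have : b ∈ ({x, y} : Set phi.ker) := hu.symm ▸ Set.mem_univ b
      simpa using this
    have n1 : (⟨⟨t, htH⟩, hker⟩ : phi.ker) ≠ 1 := fun h => ht1 (congrArg (fun z : phi.ker => (z : fi22Setup.G)) h)
    have n2 : (⟨⟨z0, Fi22U62.z0_mem⟩, hz0⟩ : phi.ker) ≠ 1 :=
      fun h => Fi22U62.z0_ne (congrArg (fun z : phi.ker => (z : fi22Setup.G)) h)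
    have : (⟨⟨t, htH⟩, hker⟩ : phi.ker) = ⟨⟨z0, Fi22U62.z0_mem⟩, hz0⟩ := by
      rcases m 1 with h | h <;> rcases m ⟨⟨t, htH⟩, hker⟩ with h' | h' <;>
        rcases m ⟨⟨z0, Fi22U62.z0_mem⟩, hz0⟩ with h'' | h'' <;> simp_all
    exact congrArg (fun z : phi.ker => (z : fi22Setup.G)) this
  refine ⟨model.ρ g⁻¹ pt0, ?_⟩
  rw [model.conj, model_d0]
  calc g⁻¹ * z0 * g⁻¹⁻¹ = g⁻¹ * t * g⁻¹⁻¹ := by rw [hz]
    _ = φ z0 := by rw [ht]; group

/-- every automorphism preserves the transpositions -/
theorem apply_mem_range (φ : MulAut fi22Setup.G) (i : Fin fi22h.n) : φ (model.d i) ∈ Set.range model.d :=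
  model.apply_mem_range pt0 φ (by rw [model_d0]; exact apply_z0 φ) i

end Cfsg.Agent.Fi22Aut
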