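import Cfsg.Agent.Lib.Fi22Aut.Tables
import Cfsg.Agent.Lib.Fi22Aut.Eleven

/-!
The outer automorphism group of Fi22 has order two (helper71).

* `exists_leaf`, `leaves_not_equiv`, `exists_endo`, `card_out`
-/

set_option autoImplicit false
set_option maxRecDepth 100000

namespace Cfsg.Agent.Fi22Aut

open Cfsg.Agent.CosetEnum Cfsg.Agent.CosetEnum.Data
open Cfsg.Agent.Fi22U62 (rho pt0 z0 rho_injective rho_ev lane_trace Hs mem_Hs_iff orbit_rep dword)
open Cfsg.Agent.FischerAut (Node nodeOK mapF_eq)

/-- the points of the generators -/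
noncomputable def gpt (a : ℕ) : Fin fi22h.n := pt (letterWords.getD a [])

/-- the points of a leaf -/
noncomputable def lpt (L : List (List ℕ)) (a : ℕ) : Fin fi22h.n := pt (L.getD a [])

theorem letter_ok {a : ℕ} (ha : a < 9) : okw (letterWords.getD a []) = true := by
  have h := List.all_eq_true.mp letters_check a (List.mem_range.mpr ha)
  simp only [Bool.and_eq_true] at h
  exact h.1

theorem d_gpt {a : ℕ} (ha : a < 9) : model.d (gpt a) = fi22Setup.el a := by
  have h := List.all_eq_true.mp letters_check a (List.mem_range.mpr ha)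
  simp only [Bool.and_eq_true] at h
  have hlt := okw_iff.mp h.1
  rw [gpt, d_pt hlt]
  have h2 := eq_of_trace (v := dword (letterWords.getD a [])) (u := [a]) (fun b hb => by rw [List.mem_singleton.mp hb]; exact ha) (dword_lt hlt)
    (Nat.eq_of_beq_eq_true h.2)
  rw [← h2]
  simp [ev]

theorem valid_gpt : model.Valid com 9 gpt := by
  intro a ha b hb
  have h := List.all_eq_true.mp (List.all_eq_true.mp letters_valid a (List.mem_range.mpr ha)) b (List.mem_range.mpr hb)
  simp only [force_eq, Bool.and_eq_true, Bool.not_eq_true', beq_iff_eq] at h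
  obtain ⟨hne, hc⟩ := h
  have hb9 : b < 9 := lt_trans hb ha
  rw [P_eq (letter_ok ha), P_eq (letter_ok hb9)] at hne
  refine ⟨fun e => ?_, ?_⟩
  · have e' : pt (letterWords.getD a []) = pt (letterWords.getD b []) := e
    rw [e', Nat.beq_refl] at hne
    exact Bool.false_ne_true hne.symm
  · rw [P_eq (letter_ok ha), ctx.hV _ (letter_ok hb9)] at hc
    rw [← hc]
    constructor
    · intro hadj
      exact (congrArg (fun x : Fin fi22h.n => Nat.beq (x : ℕ) _) hadj).trans (Nat.beq_refl _)
    · exact fun e => Fin.ext (Nat.eq_of_beq_eq_true e)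

theorem gen_top : Subgroup.closure ((fun a => model.d (gpt a)) '' {a | a < 9}) = ⊤ := by
  rw [eq_top_iff, ← Setup.closure_el S1687.table.gens S1687.table.letters, Subgroup.closure_le]
  rintro _ ⟨⟨a, ha⟩, rfl⟩
  exact Subgroup.subset_closure ⟨a, ha, d_gpt ha⟩

theorem pt_nil : pt [] = pt0 := by simp [pt, ev]

theorem orb0_mem {i : Fin fi22h.n} (h : rho z0 i ≠ i) : (i : ℕ) ∈ Data.maskSet fi22h fi22h_orb0 := by
  have hc := adj0_check
  simp only [force_eq, List.all_eq_true, Bool.or_eq_true] at hc
  rcases hc i (List.mem_range.mpr i.2) with hc | hc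
  · refine absurd (Fin.ext ?_) h
    rw [lane_trace (w := [0]) (by simp; decide +kernel) i] at hc
    rw [z0, Setup.hom_el _ _ _ _ (show 0 < fi22h.k by decide +kernel),
      Setup.perm_apply _ (show 0 < fi22h.k by decide +kernel)]
    exact Nat.eq_of_beq_eq_true hc
  · exact ⟨i.2, Nat.eq_of_beq_eq_true hc⟩

theorem orb0_root : fi22h_orb0.root = ((pt [1] : Fin fi22h.n) : ℕ) := by
  rw [← P_eq (by decide +kernel)]
  decide +kernel

theorem exists_leaf (q : ℕ → Fin fi22h.n) (hq : model.Valid com 9 q) :
    model.Equiv' 9 q (lpt leaf1) ∨ model.Equiv' 9 q (lpt leaf2) := by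
  obtain ⟨g, hg⟩ := model.trans (q 0) pt0
  have hq1 := hq.map model g
  set q1 : ℕ → Fin fi22h.n := fun a => model.ρ g (q a)
  have h10 := hq1 1 (by norm_num) 0 (by norm_num)
  have hne : rho z0 (q1 1) ≠ q1 1 := by
    intro h
    have : model.Adj (q1 0) (q1 1) := by
      show model.ρ (model.d (model.ρ g (q 0))) _ = _
      rw [hg, model_d0]; exact h
    have := h10.2.mp this
    revert this
    decide
  have hok := fi22h_orb0_check
  simp only [Bool.and_eq_true] at hok
  obtain ⟨h, hh, hr⟩ := orbit_rep hok.1 (by decide +kernel) (orb0_mem hne)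
  have hh0 : rho h pt0 = pt0 := (mem_Hs_iff h).mp hh
  have hr1 : rho h (pt [1]) = q1 1 := Fin.ext (hr _ orb0_root.symm)
  obtain ⟨nd, hnd, hpre⟩ := List.any_eq_true.mp start_shape
  rw [beq_iff_eq] at hpre
  have hq2 := hq1.map model h⁻¹
  obtain ⟨L, hL, -, hLe⟩ := ctx.exists_leaf com 9 treeNodes [leaf1, leaf2] (List.all_eq_true.mp nodes_ok) tree_ok hnd hq2
    (fun b hb => by
      have hb2 : b < 2 := by rw [hpre] at hb; exact hb
      simp only [hpre]
      interval_cases b
      · show rho h⁻¹ (rho g (q 0)) = pt []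
        rw [pt_nil, show rho g (q 0) = pt0 from hg, map_inv, Equiv.Perm.inv_eq_iff_eq]
        exact hh0.symm
      · show rho h⁻¹ (q1 1) = pt [1]
        rw [map_inv, Equiv.Perm.inv_eq_iff_eq]
        exact hr1.symm)
  have e : model.Equiv' 9 q (fun a => model.ρ h⁻¹ (q1 a)) :=
    ⟨h⁻¹ * g, fun a _ => by rw [map_mul, Equiv.Perm.mul_apply]⟩
  simp only [List.mem_cons, List.not_mem_nil, or_false] at hL
  rcases hL with rfl | rfl
  · exact Or.inl (e.trans model hLe)
  · exact Or.inr (e.trans model hLe)

theorem card_stab_last : Nat.card (model.stab ((List.range 6).map (lpt leaf1))) ≤ 2 := by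
  have := Fi22U62.fi22_finite
  obtain ⟨p0, r0, p1, r1, p2, r2, p3, r3, l0, l1, n0, n1, n2, n3⟩ := chain_shape
  have hc : ∀ nd ∈ [chain0, chain1, chain2, chain3], nodeOK 13 3510 com V P okw nd = true :=
    List.all_eq_true.mp chain_ok
  have s0 := ctx.card_stab_le com (hc chain0 (by simp)) r0
  have s1 := ctx.card_stab_le com (hc chain1 (by simp)) r1
  have s2 := ctx.card_stab_le com (hc chain2 (by simp)) r2
  have s3 := ctx.card_stab_le com (hc chain3 (by simp)) r3
  rw [n0, p0] at s0
  rw [n1, p1] at s1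
  rw [n2, p2] at s2
  rw [n3, p3] at s3
  simp only [List.cons_append, List.nil_append, List.map_cons, List.map_nil] at s0 s1 s2 s3
  have hlist : (List.range 6).map (lpt leaf1) =
      [pt [], pt [1], pt (leaf1.getD 2 []), pt (leaf1.getD 3 []), pt (leaf1.getD 4 []), pt (leaf1.getD 5 [])] := by
    rw [show List.range 6 = [0, 1, 2, 3, 4, 5] from rfl]
    simp only [lpt, List.map_cons, List.map_nil, l0, l1]
  rw [hlist]
  have t0 := model.mul_card_stab_le [] pt0 (List.finRange fi22h.n) (List.nodup_finRange _) (fun p _ => by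
    obtain ⟨g, hg⟩ := model.trans pt0 p
    exact ⟨g, by simp [FischerAut.Model.stab_nil], hg⟩)
  have t1 := model.mul_card_stab_le [pt0] (pt [1])
    ((List.finRange fi22h.n).filter fun i : Fin fi22h.n => Nat.beq (lane 13 fi22h_orb0.mask (i : ℕ)) 1)
    ((List.nodup_finRange _).filter _) (fun p hp => by
      have hm : (p : ℕ) ∈ Data.maskSet fi22h fi22h_orb0 := by
        refine ⟨p.2, ?_⟩
        show lane 13 _ _ = 1
        exact Nat.eq_of_beq_eq_true (List.mem_filter.mp hp).2
      have hok := fi22h_orb0_check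
      simp only [Bool.and_eq_true] at hok
      obtain ⟨h, hh, hr⟩ := orbit_rep hok.1 (by decide +kernel) hm
      refine ⟨h, fun x hx => ?_, Fin.ext (hr _ orb0_root.symm)⟩
      rw [List.mem_singleton.mp hx]
      exact (mem_Hs_iff h).mp hh)
  have hcount : ((List.finRange fi22h.n).filter fun i : Fin fi22h.n => Nat.beq (lane 13 fi22h_orb0.mask (i : ℕ)) 1).length = 2816 := by
    have h := orb0_count
    rw [force_eq] at h
    have hr : List.map (fun i : Fin fi22h.n => (i : ℕ)) (List.finRange fi22h.n) = List.range fi22h.n :=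
      List.map_coe_finRange_eq_range
    rw [← Nat.eq_of_beq_eq_true h, show List.range 3510 = List.range fi22h.n from rfl, ← hr, List.filter_map,
      List.length_map]
    rfl
  rw [List.length_finRange, FischerAut.Model.stab_nil, Subgroup.card_top, card_fi22, List.nil_append] at t0
  change 3510 * _ ≤ _ at t0
  rw [hcount, List.singleton_append] at t1
  have s0' : 567 * Nat.card (model.stab [pt [], pt [1], pt (leaf1.getD 2 [])]) ≤ Nat.card (model.stab [pt [], pt [1]]) := s0
  have s1' : 96 * Nat.card (model.stab [pt [], pt [1], pt (leaf1.getD 2 []), pt (leaf1.getD 3 [])]) ≤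
      Nat.card (model.stab [pt [], pt [1], pt (leaf1.getD 2 [])]) := s1
  have s2' : 10 * Nat.card (model.stab [pt [], pt [1], pt (leaf1.getD 2 []), pt (leaf1.getD 3 []), pt (leaf1.getD 4 [])]) ≤
      Nat.card (model.stab [pt [], pt [1], pt (leaf1.getD 2 []), pt (leaf1.getD 3 [])]) := s2
  have s3' : 6 * Nat.card (model.stab [pt [], pt [1], pt (leaf1.getD 2 []), pt (leaf1.getD 3 []), pt (leaf1.getD 4 []),
      pt (leaf1.getD 5 [])]) ≤
      Nat.card (model.stab [pt [], pt [1], pt (leaf1.getD 2 []), pt (leaf1.getD 3 []), pt (leaf1.getD 4 [])]) := s3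
  rw [pt_nil] at s0' s1' s2' s3' ⊢
  omega

theorem leaves_not_equiv : ¬ model.Equiv' 9 (lpt leaf1) (lpt leaf2) := by
  rintro ⟨g, hg⟩
  have := Fi22U62.fi22_finite
  have hl := last_check
  simp only [force_eq, Bool.and_eq_true, List.all_eq_true, List.mem_range, Bool.not_eq_true', List.any_eq_true] at hl
  obtain ⟨hw, hsame, hfix, hmove, hne, i, hi, hd1⟩ := hl
  have hok := leaves_okw
  simp only [Bool.and_eq_true, List.all_eq_true] at hok
  have hwk : ∀ a < 9, okw (leaf1.getD a []) = true ∧ okw (leaf2.getD a []) = true := by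
    intro a ha
    have h1 : a < leaf1.length := by rw [show leaf1.length = 9 from by decide +kernel]; exact ha
    have h2 : a < leaf2.length := by rw [show leaf2.length = 9 from by decide +kernel]; exact ha
    rw [List.getD_eq_getElem _ _ h1, List.getD_eq_getElem _ _ h2]
    exact ⟨hok.1 _ (List.getElem_mem _), hok.2 _ (List.getElem_mem _)⟩
  have hsame' : ∀ a < 6, lpt leaf2 a = lpt leaf1 a := fun a ha => Fin.ext (by
    have := hsame a (by interval_cases a <;> simp)
    rw [P_eq (hwk a (by omega)).1, P_eq (hwk a (by omega)).2] at this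
    exact (Nat.eq_of_beq_eq_true this).symm)
  set S := model.stab ((List.range 6).map (lpt leaf1))
  have hgS : g ∈ S := by
    intro p hp
    obtain ⟨a, ha, rfl⟩ := List.mem_map.mp hp
    have ha' := List.mem_range.mp ha
    rw [hg a (by omega), hsame' a ha']
  set d := model.d (pt lastWord)
  have hdS : d ∈ S := by
    intro p hp
    obtain ⟨a, ha, rfl⟩ := List.mem_map.mp hp
    have ha' := List.mem_range.mp ha
    refine Fin.ext ?_
    have := Nat.eq_of_beq_eq_true (hfix a ha')
    rw [P_eq (hwk a (by omega)).1, ctx.hV lastWord hw] at this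
    exact this
  have hd : d ≠ 1 := by
    intro h
    have h2 := ctx.hV lastWord hw ⟨i, hi⟩
    rw [show model.d (ctx.pt lastWord) = d from rfl, h, map_one] at h2
    rw [h2] at hd1
    exact Bool.false_ne_true (hd1.symm.trans (Nat.beq_refl _))
  have hcases : g = 1 ∨ g = d := by
    by_contra hc
    push Not at hc
    have h3 := card_stab_last
    change Nat.card S ≤ 2 at h3
    let f : Fin 3 → S := ![1, ⟨d, hdS⟩, ⟨g, hgS⟩]
    have hf : Function.Injective f := by
      intro a b hab
      fin_cases a <;> fin_cases b <;> first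
        | rfl
        | (exfalso; simp [f, Subtype.ext_iff] at hab; first | exact hd hab | exact hd hab.symm | exact hc.1 hab | exact hc.1 hab.symm | exact hc.2 hab | exact hc.2 hab.symm)
    have := Nat.card_le_card_of_injective f hf
    rw [Nat.card_fin] at this
    omega
  have h7 := hg 7 (by norm_num)
  rw [P_eq (hwk 7 (by norm_num)).1, P_eq (hwk 7 (by norm_num)).2] at hne
  rcases hcases with rfl | rfl
  · rw [map_one, Equiv.Perm.one_apply] at h7
    have h7' : pt (leaf1.getD 7 []) = pt (leaf2.getD 7 []) := h7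
    rw [h7'] at hne
    exact Bool.false_ne_true (hne.symm.trans (Nat.beq_refl _))
  · rw [P_eq (hwk 7 (by norm_num)).1, P_eq (hwk 7 (by norm_num)).2, ctx.hV lastWord hw] at hmove
    have h7' : (model.ρ (model.d (pt lastWord))) (pt (leaf1.getD 7 [])) = pt (leaf2.getD 7 []) := h7
    rw [show ctx.pt lastWord = pt lastWord from rfl, h7'] at hmove
    exact Bool.false_ne_true (hmove.symm.trans (Nat.beq_refl _))

theorem eq_one_of_fix {g : fi22Setup.G} (h : ∀ a < 9, rho g (gpt a) = gpt a) : g = 1 := by
  have hc : ∀ x, x * g = g * x := by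
    intro x
    have hx : x ∈ Subgroup.closure ((fun a => model.d (gpt a)) '' {a | a < 9}) := gen_top ▸ Subgroup.mem_top x
    induction hx using Subgroup.closure_induction with
    | mem x hx =>
      obtain ⟨a, ha, rfl⟩ := hx
      exact (model.commute_of_fix (h a ha)).symm
    | one => simp
    | mul x y _ _ hx hy => rw [mul_assoc, hy, ← mul_assoc, hx, mul_assoc]
    | inv x _ hx => exact Commute.inv_left hx
  have := S1696.main.1
  by_contra hne
  have htop : Subgroup.center fi22Setup.G = ⊤ :=
    (Subgroup.center fi22Setup.G).normal_of_characteristic.eq_bot_or_eq_top.resolve_left fun hb => hne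
      (by simpa [hb] using (Subgroup.mem_center_iff.mpr hc : g ∈ Subgroup.center fi22Setup.G))
  have hcomm : model.d (gpt 0) * model.d (gpt 1) = model.d (gpt 1) * model.d (gpt 0) :=
    Subgroup.mem_center_iff.mp (htop ▸ Subgroup.mem_top (model.d (gpt 1))) _
  have hadj : model.Adj (gpt 0) (gpt 1) := (model.adj_iff _ _).mpr hcomm
  have := (valid_gpt 1 (by norm_num) 0 (by norm_num)).2.mp hadj
  revert this
  decide

/-- the word of a relator through a leaf -/
noncomputable def sub (L : List (List ℕ)) (a : ℕ) : fi22Setup.G := model.d (lpt L a)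

theorem rho_lfold (L : List (List ℕ)) (hL : L.all okw = true) (hlen : L.length = 9) : ∀ (w : List ℕ),
    (∀ a ∈ w, a < 9) → ∀ i : Fin fi22h.n, (rho (ev (sub L) w) i : ℕ) = lfold (L.map V) w i
  | [], _, i => by simp [ev, lfold]
  | a :: v, hw, i => by
    have ha := hw a List.mem_cons_self
    show (rho (ev (sub L) v * sub L a) i : ℕ) = _
    rw [map_mul, Equiv.Perm.mul_apply, rho_lfold L hL hlen v (fun b hb => hw b (List.mem_cons_of_mem a hb)), lfold,
      force_eq, List.getD_eq_getElem _ _ (by simp [hlen, ha]), List.getElem_map,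
      ctx.hV _ (List.all_eq_true.mp hL _ (List.getElem_mem _))]
    congr 2
    unfold sub lpt
    rw [List.getD_eq_getElem _ _ (by rw [hlen]; exact ha)]
    rfl

theorem lift_eq_one (L : List (List ℕ)) (hL : L ∈ [leaf1, leaf2]) :
    ∀ r ∈ fi22Setup.rels, FreeGroup.lift (fun x => sub L (fi22Setup.sg x)) r = 1 := by
  intro r hr
  have hok := leaves_okw
  simp only [Bool.and_eq_true] at hok
  have hlen : L.length = 9 ∧ L.all okw = true := by
    simp only [List.mem_cons, List.not_mem_nil, or_false] at hL
    rcases hL with rfl | rfl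
    · exact ⟨by decide +kernel, hok.1⟩
    · exact ⟨by decide +kernel, hok.2⟩
  have h := List.all_eq_true.mp rels_check L hL
  simp only [relsOKAt, mapF_eq, Bool.and_eq_true, List.all_eq_true, Nat.blt_eq] at h
  obtain ⟨hw, hp⟩ := h r (fi22Setup.mem_allRels hr)
  obtain ⟨h1, -⟩ := Setup.letters_spec S1687.table.gens S1687.table.letters
  have hinv : ∀ a, a < 9 → sub L a * sub L a = 1 := by
    intro a ha
    obtain ⟨g, hg⟩ := model.trans pt0 (lpt L a)
    rw [sub, ← hg, model.conj, model_d0, conj_mul, Fi22U62.z0_sq]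
    group
  have hself : ∀ x, fi22h.invl (fi22Setup.sg x) = fi22Setup.sg x := by
    intro x; cases x <;> decide +kernel
  rw [Setup.lift_eq_ev (S := fi22Setup) (D := fi22h) _ (sub L) (fun _ => rfl) (fun x => by
    rw [hself x]
    exact eq_inv_of_mul_eq_one_left (hinv _ (h1 x).1))]
  refine eq_one_of_fix fun a ha => Fin.ext ?_
  rw [rho_lfold L hlen.2 hlen.1 _ hw]
  have hlw : letterWords.getD a [] ∈ letterWords := by
    rw [List.getD_eq_getElem _ _ (by rw [show letterWords.length = 9 from by decide +kernel]; exact ha)]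
    exact List.getElem_mem _
  have := Nat.eq_of_beq_eq_true (hp _ (List.mem_map.mpr ⟨_, hlw, rfl⟩))
  rw [P_eq (letter_ok ha)] at this
  exact this

theorem exists_endo (L : List (List ℕ)) (hL : L ∈ [leaf1, leaf2]) :
    ∃ φ : MulAut fi22Setup.G, ∀ a < 9, φ (model.d (gpt a)) = model.d (lpt L a) := by
  have := Fi22U62.fi22_finite
  have := S1696.main.1
  let f : fi22Setup.G →* fi22Setup.G := PresentedGroup.toGroup (lift_eq_one L hL)
  obtain ⟨h1, h2⟩ := Setup.letters_spec S1687.table.gens S1687.table.letters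
  have hel : ∀ a < 9, f (fi22Setup.el a) = sub L a := by
    intro a ha
    have hlt : fi22Setup.lt[a]? = some ((fi22Setup.gens.getD a .a), true) := by
      interval_cases a <;> decide +kernel
    have hsg : fi22Setup.sg (fi22Setup.gens.getD a .a) = a := by
      interval_cases a <;> decide +kernel
    have : fi22Setup.el a = PresentedGroup.of (fi22Setup.gens.getD a .a) := by
      rw [Setup.el, hlt]
    rw [this]
    show PresentedGroup.toGroup (lift_eq_one L hL) _ = _
    rw [PresentedGroup.toGroup.of, hsg]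
  have hinj : Function.Injective f := by
    rw [← MonoidHom.ker_eq_bot_iff]
    refine f.normal_ker.eq_bot_or_eq_top.resolve_right fun h => ?_
    have h0 : f (fi22Setup.el 0) = 1 := MonoidHom.mem_ker.mp (h ▸ Subgroup.mem_top _)
    rw [hel 0 (by norm_num), sub] at h0
    obtain ⟨g, hg⟩ := model.trans pt0 (lpt L 0)
    rw [← hg, model.conj, model_d0] at h0
    exact Fi22U62.z0_ne (conj_eq_one_iff.mp h0)
  exact ⟨MulEquiv.ofBijective f (Finite.injective_iff_bijective.mp hinj), fun a ha => by
    rw [d_gpt ha]; exact hel a ha⟩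

/-- the outer automorphism group of Fi22 has order two -/
theorem card_out : Nat.card (Cfsg.Out fi22Setup.G) = 2 := by
  obtain ⟨φ₁, h₁⟩ := exists_endo leaf1 (by simp)
  obtain ⟨φ₂, h₂⟩ := exists_endo leaf2 (by simp)
  exact model.card_out_two valid_gpt gen_top apply_mem_range (lpt leaf1) (lpt leaf2) exists_leaf φ₁ φ₂ h₁ h₂
    leaves_not_equiv

end Cfsg.Agent.Fi22Aut
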