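import Cfsg.Agent.Lib.Fi22Aut.Basic
import Cfsg.Agent.Lib.Fi22Aut.Data

/-!
Certificates for the configurations of nine transpositions of Fi22 (helper71).
-/

set_option autoImplicit false
set_option maxRecDepth 100000

namespace Cfsg.Agent.Fi22Aut

open Cfsg.Agent.CosetEnum Cfsg.Agent.CosetEnum.Data
open Cfsg.Agent.Fi22U62 (dword)

/-- commuting generators -/
def com (a b : ℕ) : Bool :=
  !([(1, 0), (2, 1), (3, 2), (4, 3), (7, 3), (5, 4), (6, 5), (8, 7)].contains (a, b))

theorem nodes_ok : (treeNodes.all (FischerAut.nodeOK 13 3510 com V P okw)) = true := by decide +kernel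

theorem chain_ok : ([chain0, chain1, chain2, chain3].all (FischerAut.nodeOK 13 3510 com V P okw)) = true := by
  decide +kernel

theorem tree_ok : FischerAut.treeOK 9 treeNodes [leaf1, leaf2] = true := by decide +kernel

theorem chain_shape : chain0.pre = [[], [1]] ∧ chain0.reps = [leaf1.getD 2 []] ∧
    chain1.pre = [[], [1], leaf1.getD 2 []] ∧ chain1.reps = [leaf1.getD 3 []] ∧
    chain2.pre = [[], [1], leaf1.getD 2 [], leaf1.getD 3 []] ∧ chain2.reps = [leaf1.getD 4 []] ∧
    chain3.pre = [[], [1], leaf1.getD 2 [], leaf1.getD 3 [], leaf1.getD 4 []] ∧ chain3.reps = [leaf1.getD 5 []] ∧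
    leaf1.getD 0 [] = [] ∧ leaf1.getD 1 [] = [1] ∧
    chain0.steps.length = 566 ∧ chain1.steps.length = 95 ∧ chain2.steps.length = 9 ∧ chain3.steps.length = 5 := by
  decide +kernel

theorem start_shape : (treeNodes.any fun nd => nd.pre == [[], [1]]) = true := by decide +kernel

theorem letters_check : ((List.range 9).all fun a =>
    okw (letterWords.getD a []) && Nat.beq (fi22h.trace [a]) (V (letterWords.getD a []))) = true := by
  decide +kernel

theorem letters_valid : ((List.range 9).all fun a => (List.range a).all fun b =>
    force (V (letterWords.getD b [])) fun T => force (P (letterWords.getD a [])) fun q =>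
      !Nat.beq q (P (letterWords.getD b [])) && (Nat.beq (lane 13 T q) q == com a b)) = true := by
  decide +kernel

theorem adj0_check : (force (fi22h.trace [0]) fun T => force fi22h_orb0.mask fun M => (List.range 3510).all fun i =>
    Nat.beq (lane 13 T i) i || Nat.beq (lane 13 M i) 1) = true := by
  decide +kernel

theorem orb0_count : (force fi22h_orb0.mask fun M =>
    Nat.beq ((List.range 3510).filter fun i => Nat.beq (lane 13 M i) 1).length 2816) = true := by
  decide +kernel

/-- the two leaves differ in position 7 only, and there only in an outer way -/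
theorem last_check : (okw lastWord && force (V lastWord) fun T =>
    ([0, 1, 2, 3, 4, 5, 6, 8].all fun a => Nat.beq (P (leaf1.getD a [])) (P (leaf2.getD a []))) &&
      (((List.range 6).all fun a => Nat.beq (lane 13 T (P (leaf1.getD a []))) (P (leaf1.getD a []))) &&
        (!Nat.beq (lane 13 T (P (leaf1.getD 7 []))) (P (leaf2.getD 7 [])) &&
          (!Nat.beq (P (leaf1.getD 7 [])) (P (leaf2.getD 7 [])) &&
            (List.range 3510).any fun i => !Nat.beq (lane 13 T i) i)))) = true := by
  decide +kernel

theorem leaves_okw : (leaf1.all okw && leaf2.all okw) = true := by decide +kernel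

/-- apply a word through a list of packed permutations -/
noncomputable def lfold (Ts : List ℕ) : List ℕ → ℕ → ℕ
  | [], i => i
  | a :: v, i => force (lane 13 (Ts.getD a 0) i) fun j => lfold Ts v j

/-- the relators fix the points of the generators after substituting a leaf -/
noncomputable def relsOKAt (L : List (List ℕ)) : Bool :=
  FischerAut.mapF V L fun Ts => FischerAut.mapF P letterWords fun Ps => fi22Setup.allRels.all fun r =>
    ((fi22Setup.wl fi22h r).all fun a => Nat.blt a 9) && Ps.all fun p => Nat.beq (lfold Ts (fi22Setup.wl fi22h r) p) p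

theorem rels_check : ([leaf1, leaf2].all relsOKAt) = true := by decide +kernel

end Cfsg.Agent.Fi22Aut
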